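import Mathlib

/-!
Additive maps of a finite field of characteristic two as combinations of its automorphisms.
-/

set_option autoImplicit false
set_option linter.style.haveILetI false

namespace CfsgLib.FieldMaps

variable {F : Type*} [Field F]

/-- Dedekind: distinct automorphisms are linearly independent. -/
theorem linearIndependent_ringAut :
    LinearIndependent F (fun σ : F ≃+* F => ((σ : F →+* F) : F → F)) :=
  (linearIndependent_monoidHom F F).comp (fun σ : F ≃+* F => ((σ : F →+* F) : F →* F))
    fun σ τ h => RingEquiv.ext fun x => DFunLike.congr_fun h x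

theorem finite_ringAut [Finite F] : Finite (F ≃+* F) := Finite.of_injective _ DFunLike.coe_injective

attribute [local instance] finite_ringAut

variable [Fintype F] [CharP F 2]

/-- The combination of automorphisms with given coefficients. -/
noncomputable def combine : ((F ≃+* F) → F) →+ (F →+ F) :=
  haveI : Fintype (F ≃+* F) := Fintype.ofFinite _
  { toFun := fun c => ∑ σ, (AddMonoidHom.mulLeft (c σ)).comp (σ : F →+* F).toAddMonoidHom
    map_zero' := by ext x; simp
    map_add' := fun c d => by ext x; simp [add_mul, Finset.sum_add_distrib] }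

theorem combine_apply [Fintype (F ≃+* F)] (c : (F ≃+* F) → F) (x : F) :
    combine c x = ∑ σ, c σ * σ x := by
  simp only [combine, AddMonoidHom.coe_mk, ZeroHom.coe_mk]
  rw [AddMonoidHom.finsetSum_apply]
  refine Finset.sum_congr (by ext; simp) fun σ _ => by simp

theorem combine_bijective : Function.Bijective (combine : ((F ≃+* F) → F) →+ (F →+ F)) := by
  classical
  haveI : Fintype (F ≃+* F) := Fintype.ofFinite _
  haveI : Finite (F →+ F) := Finite.of_injective _ DFunLike.coe_injective
  refine Function.Injective.bijective_of_nat_card_le ?_ ?_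
  · rw [injective_iff_map_eq_zero]
    intro c hc
    funext σ
    have hli := Fintype.linearIndependent_iff.1 (linearIndependent_ringAut (F := F)) c
    refine hli ?_ σ
    funext x
    have := DFunLike.congr_fun hc x
    rw [combine_apply] at this
    simpa using this
  · letI : Algebra (ZMod 2) F := ZMod.algebra F 2
    let b := Module.finBasis (ZMod 2) F
    have e1 : Nat.card (F →+ F) ≤ Nat.card F ^ Module.finrank (ZMod 2) F := by
      refine le_of_le_of_eq (Nat.card_le_card_of_injective
        (fun f : F →+ F => fun i => f (b i)) ?_) (by rw [Nat.card_fun, Nat.card_fin])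
      intro f g h
      exact AddMonoidHom.toZModLinearMap_injective 2 (b.ext fun i => congrFun h i)
    have e2 : Module.finrank (ZMod 2) F ≤ Nat.card (F ≃+* F) := by
      rw [← IsGalois.card_aut_eq_finrank (ZMod 2) F]
      exact Nat.card_le_card_of_injective (fun σ : F ≃ₐ[ZMod 2] F => σ.toRingEquiv)
        fun σ τ h => AlgEquiv.ext fun x => DFunLike.congr_fun h x
    refine e1.trans ?_
    rw [Nat.card_fun]
    exact Nat.pow_le_pow_right Nat.card_pos e2

theorem exists_coeff (f : F →+ F) : ∃ (s : Finset (F ≃+* F)) (c : (F ≃+* F) → F),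
    ∀ x : F, f x = ∑ σ ∈ s, c σ * σ x := by
  classical
  haveI : Fintype (F ≃+* F) := Fintype.ofFinite _
  obtain ⟨c, rfl⟩ := combine_bijective.2 f
  exact ⟨Finset.univ, c, combine_apply c⟩

theorem exists_coeff_biadditive (B : F →+ F →+ F) :
    ∃ (s : Finset ((F ≃+* F) × (F ≃+* F))) (c : (F ≃+* F) × (F ≃+* F) → F),
      ∀ x y : F, B x y = ∑ p ∈ s, c p * (p.1 x * p.2 y) := by
  classical
  haveI : Fintype (F ≃+* F) := Fintype.ofFinite _
  let Φ := AddEquiv.ofBijective (combine : ((F ≃+* F) → F) →+ (F →+ F)) combine_bijective
  let g : (F ≃+* F) → (F →+ F) := fun τ =>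
    (Pi.evalAddMonoidHom (fun _ : F ≃+* F => F) τ).comp (Φ.symm.toAddMonoidHom.comp B)
  refine ⟨Finset.univ, fun p => Φ.symm (g p.2) p.1, fun x y => ?_⟩
  have h1 : B x = combine (Φ.symm (B x)) := (Φ.apply_symm_apply (B x)).symm
  have h2 : ∀ τ, g τ = combine (Φ.symm (g τ)) := fun τ => (Φ.apply_symm_apply (g τ)).symm
  conv_lhs => rw [h1, combine_apply]
  rw [Fintype.sum_prod_type_right]
  refine Finset.sum_congr rfl fun τ _ => ?_
  rw [show Φ.symm (B x) τ = g τ x from rfl, h2 τ, combine_apply, Finset.sum_mul]
  exact Finset.sum_congr rfl fun σ _ => by ring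

/-- A map with vanishing third differences is the diagonal of a biadditive map. -/
theorem exists_diagonal (q : F → F)
    (hq : ∀ x y z : F, q (x + y + z) + q (x + y) + q (x + z) + q (y + z) + q x + q y + q z = 0) :
    ∃ β : F →+ F →+ F, ∀ x, q x = β x x := by
  letI : Algebra (ZMod 2) F := ZMod.algebra F 2
  have h2 : ∀ u : F, u + u = 0 := CharTwo.add_self_eq_zero
  have h0 : q 0 = 0 := by
    have := hq 0 0 0
    simp only [add_zero, h2, zero_add] at this
    exact this
  have hc : ∀ c : ZMod 2, c = 0 ∨ c = 1 := by decide
  let Qm : QuadraticMap (ZMod 2) F F := QuadraticMap.ofPolar q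
    (fun c x => by rcases hc c with rfl | rfl <;> simp [h0])
    (fun x x' y => by
      have h := hq x x' y
      simp only [QuadraticMap.polar, CharTwo.sub_eq_add]
      linear_combination h - (q x + q x' + q y + q (x + y) + q (x' + y)) * (CharTwo.two_eq_zero (R := F)))
    (fun c x y => by rcases hc c with rfl | rfl <;> simp [QuadraticMap.polar, h0])
  letI : LinearOrder (Fin (Module.finrank (ZMod 2) F)) := inferInstance
  refine ⟨{ toFun := fun x => (Qm.toBilin (Module.finBasis (ZMod 2) F) x).toAddMonoidHom
            map_zero' := by ext; simp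
            map_add' := fun x y => by ext; simp }, fun x => ?_⟩
  have := QuadraticMap.toQuadraticMap_toBilin Qm (Module.finBasis (ZMod 2) F)
  exact (DFunLike.congr_fun this x).symm

end CfsgLib.FieldMaps
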